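import Groth.Agent.SepAffine.Alg
import Groth.Agent.UfdExtend.Local
import Groth.Agent.SpQS.DimZero
import Groth.Agent.AmpleDimOne.Top
import Mathlib

/-!
Points with one dimensional local rings: generalisations, affine neighbourhoods.
-/

set_option autoImplicit false

universe u

open CategoryTheory AlgebraicGeometry TopologicalSpace

namespace Groth.Agent.SepAffine

variable {X : Scheme.{u}}

/-- A point without proper generalisations. -/
def IsMaxPoint (x : X) : Prop := ∀ y, y ⤳ x → y = x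

theorem eq_or_eq_of_specializes {y : X} (hy : ringKrullDim (X.presheaf.stalk y) ≤ 1) {a b : X}
    (hab : a ⤳ b) (hby : b ⤳ y) : a = b ∨ b = y := by
  obtain ⟨D, hD, hyD, -⟩ := exists_isAffineOpen_mem_and_subset (x := y) (U := (⊤ : X.Opens)) trivial
  have hbD := hby.mem_open D.2 hyD
  have haD := hab.mem_open D.2 hbD
  have key : ∀ {v w : X} (hv : v ∈ D) (hw : w ∈ D), v ⤳ w → v ≠ w →
      (hD.primeIdealOf ⟨v, hv⟩).asIdeal < (hD.primeIdealOf ⟨w, hw⟩).asIdeal := fun {v w} hv hw h hne => by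
    haveI := hD.isOpenImmersion_fromSpec
    have h1 : hD.primeIdealOf ⟨v, hv⟩ ⤳ hD.primeIdealOf ⟨w, hw⟩ :=
      hD.fromSpec.isEmbedding.isInducing.specializes_iff.1 (by rwa [hD.fromSpec_primeIdealOf, hD.fromSpec_primeIdealOf])
    refine lt_of_le_of_ne ((PrimeSpectrum.le_iff_specializes _ _).2 h1) fun e => hne ?_
    have := congrArg hD.fromSpec (PrimeSpectrum.ext e)
    rwa [hD.fromSpec_primeIdealOf, hD.fromSpec_primeIdealOf] at this
  by_contra hcon
  push Not at hcon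
  rw [UfdExtend.ringKrullDim_stalk hD hyD] at hy
  have h3 : (hD.primeIdealOf ⟨y, hyD⟩).asIdeal.height ≤ 1 := by exact_mod_cast hy
  have hb1 : (hD.primeIdealOf ⟨b, hbD⟩).asIdeal.height ≤ 1 :=
    (Ideal.height_mono (key hbD hyD hby hcon.2).le).trans h3
  have ha1 : (hD.primeIdealOf ⟨a, haD⟩).asIdeal.height ≤ 1 :=
    (Ideal.height_mono (key haD hbD hab hcon.1).le).trans hb1
  haveI : (hD.primeIdealOf ⟨a, haD⟩).asIdeal.FiniteHeight :=
    ⟨Or.inr (ne_top_of_le_ne_top (by simp) ha1)⟩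
  haveI : (hD.primeIdealOf ⟨b, hbD⟩).asIdeal.FiniteHeight :=
    ⟨Or.inr (ne_top_of_le_ne_top (by simp) hb1)⟩
  have h1 := Ideal.height_strict_mono_of_isPrime (key haD hbD hab hcon.1)
  have h2 := Ideal.height_strict_mono_of_isPrime (key hbD hyD hby hcon.2)
  rw [Order.lt_one_iff.1 (h2.trans_le h3)] at h1
  exact not_lt_zero h1

theorem isMaxPoint_of_specializes {y : X} (hy : ringKrullDim (X.presheaf.stalk y) ≤ 1) {b : X}
    (hby : b ⤳ y) (hne : b ≠ y) : IsMaxPoint b := fun _ hab => (eq_or_eq_of_specializes hy hab hby).resolve_right hne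

theorem finite_generalisations [IsLocallyNoetherian X] {y : X} (hy : ringKrullDim (X.presheaf.stalk y) ≤ 1) :
    {b : X | b ⤳ y ∧ b ≠ y}.Finite := by
  obtain ⟨D, hD, hyD, -⟩ := exists_isAffineOpen_mem_and_subset (x := y) (U := (⊤ : X.Opens)) trivial
  haveI : IsNoetherianRing Γ(X, D) := IsLocallyNoetherian.component_noetherian ⟨D, hD⟩
  haveI := hD.isOpenImmersion_fromSpec
  refine (((minimalPrimes.finite_of_isNoetherianRing Γ(X, D)).preimage (f := PrimeSpectrum.asIdeal)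
    fun _ _ _ _ h => PrimeSpectrum.ext h).image hD.fromSpec).subset fun b ⟨hb, hne⟩ => ?_
  have hbD := hb.mem_open D.2 hyD
  refine ⟨hD.primeIdealOf ⟨b, hbD⟩, ?_, hD.fromSpec_primeIdealOf _⟩
  refine ⟨⟨inferInstance, bot_le⟩, fun q hq hle => ?_⟩
  let q' : PrimeSpectrum Γ(X, D) := ⟨q, hq.1⟩
  have h1 : hD.fromSpec q' ⤳ b := by
    have := Specializes.map ((PrimeSpectrum.le_iff_specializes q' (hD.primeIdealOf ⟨b, hbD⟩)).1 hle) hD.fromSpec.continuous
    rwa [hD.fromSpec_primeIdealOf] at this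
  have h2 : q' = hD.primeIdealOf ⟨b, hbD⟩ := hD.fromSpec.isOpenEmbedding.injective
    ((isMaxPoint_of_specializes hy hb hne _ h1).trans (hD.fromSpec_primeIdealOf ⟨b, hbD⟩).symm)
  exact (congrArg PrimeSpectrum.asIdeal h2).ge

/-- An affine open can be enlarged by finitely many points without proper generalisations. -/
theorem exists_affine_extend [QuasiSeparatedSpace X] {D₀ : X.Opens} (hD₀ : IsAffineOpen D₀) {H : Set X}
    (hH : H.Finite) (hmax : ∀ e ∈ H, IsMaxPoint e) (O : X.Opens) (hD₀O : D₀ ≤ O) (hHO : H ⊆ O) :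
    ∃ D : X.Opens, IsAffineOpen D ∧ D₀ ≤ D ∧ H ⊆ D ∧ D ≤ O := by
  induction H, hH using Set.Finite.induction_on with
  | empty => exact ⟨D₀, hD₀, le_rfl, Set.empty_subset _, hD₀O⟩
  | @insert e E _ _ ih =>
    obtain ⟨D, hD, h₀, hED, hDO⟩ := ih (fun e' he' => hmax e' (Or.inr he')) fun e' he' => hHO (Or.inr he')
    by_cases heD : e ∈ D
    · exact ⟨D, hD, h₀, Set.insert_subset heD hED, hDO⟩
    have : CompactSpace D.toScheme := isCompact_iff_compactSpace.1 hD.isCompact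
    have : QuasiCompact D.ι := quasiCompact_of_compactSpace _
    have he : e ∉ closure (D : Set X) := fun hcl => by
      obtain ⟨z, -, hz⟩ := SubDescent.exists_specializes_of_mem_closure_image D.ι isClosed_univ
        (y := e) (by rwa [Set.image_univ, Scheme.Opens.range_ι])
      exact heD (hmax e (Set.mem_insert _ _) _ hz ▸ z.2)
    obtain ⟨A, hA, heA, hAle⟩ := exists_isAffineOpen_mem_and_subset (x := e)
      (U := O ⊓ ⟨(closure (D : Set X))ᶜ, isClosed_closure.isOpen_compl⟩) ⟨hHO (Set.mem_insert _ _), he⟩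
    refine ⟨D ⊔ A, hD.sup_of_disjoint hA ?_, h₀.trans le_sup_left,
      Set.insert_subset (Or.inr heA) fun x hx => Or.inl (hED hx), sup_le hDO fun x hx => (hAle hx).1⟩
    rw [disjoint_iff]
    exact Opens.ext (Set.eq_empty_of_forall_notMem fun x hx => (hAle hx.2).2 (subset_closure hx.1))

/-- A point outside an open containing its proper generalisations has an affine neighbourhood in which the
complement of the open is the closure of the point and is cut out by one equation. -/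
theorem exists_principal_nbhd [IsLocallyNoetherian X] (U : X.Opens) {y : X}
    (hy : ringKrullDim (X.presheaf.stalk y) ≤ 1) (hyU : y ∉ U) (hnmax : ¬ IsMaxPoint y)
    (hgen : ∀ b, b ⤳ y → b ≠ y → b ∈ U) (O : X.Opens) (hyO : y ∈ O) :
    ∃ (W : X.Opens) (f : Γ(X, W)), IsAffineOpen W ∧ y ∈ W ∧ W ≤ O ∧ (∀ w ∈ W, w ∉ U → y ⤳ w) ∧
      W ⊓ U = X.basicOpen f := by
  classical
  obtain ⟨A, hA, hyA, hAO⟩ := exists_isAffineOpen_mem_and_subset (x := y) (U := O) hyO
  haveI : IsNoetherianRing Γ(X, A) := IsLocallyNoetherian.component_noetherian ⟨A, hA⟩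
  haveI := hA.isOpenImmersion_fromSpec
  let p := hA.primeIdealOf ⟨y, hyA⟩
  obtain ⟨I, hI⟩ := (PrimeSpectrum.isClosed_iff_zeroLocus_ideal _).1 ((hA.fromSpec ⁻¹ᵁ U).2.isClosed_compl)
  have hmem : ∀ q : PrimeSpectrum Γ(X, A), I ≤ q.asIdeal ↔ hA.fromSpec q ∉ U := fun q => by
    change q ∈ PrimeSpectrum.zeroLocus (I : Set Γ(X, A)) ↔ _
    rw [← hI]; rfl
  have hspec : ∀ q : PrimeSpectrum Γ(X, A), q.asIdeal ≤ p.asIdeal → hA.fromSpec q ⤳ y := fun q hq => by
    have := Specializes.map ((PrimeSpectrum.le_iff_specializes q p).1 hq) hA.fromSpec.continuous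
    rwa [hA.fromSpec_primeIdealOf] at this
  have hne : ∀ q : PrimeSpectrum Γ(X, A), q ≠ p → hA.fromSpec q ≠ y := fun q hq h =>
    hq (hA.fromSpec.isOpenEmbedding.injective (h.trans (hA.fromSpec_primeIdealOf ⟨y, hyA⟩).symm))
  have hIp : p.asIdeal ∈ I.minimalPrimes := by
    refine ⟨⟨p.2, (hmem p).2 (by rw [hA.fromSpec_primeIdealOf]; exact hyU)⟩, fun q hq hqp => ?_⟩
    by_cases h : (⟨q, hq.1⟩ : PrimeSpectrum Γ(X, A)) = p
    · exact (congrArg PrimeSpectrum.asIdeal h).ge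
    · exact absurd (hgen _ (hspec _ hqp) (hne _ h)) ((hmem ⟨q, hq.1⟩).1 hq.2)
  obtain ⟨t₁, ht₁, hsep₁⟩ := exists_separating hIp
  have hTfin : (minimalPrimes Γ(X, A) \ {p.asIdeal}).Finite :=
    (minimalPrimes.finite_of_isNoetherianRing Γ(X, A)).subset Set.sdiff_subset
  let T := hTfin.toFinset
  have hpmin : p.asIdeal ∉ minimalPrimes Γ(X, A) := fun hmin => hnmax fun b hb => by
    have hbA := hb.mem_open A.2 hyA
    have h1 : hA.primeIdealOf ⟨b, hbA⟩ ⤳ p :=
      hA.fromSpec.isEmbedding.isInducing.specializes_iff.1 (by rwa [hA.fromSpec_primeIdealOf, hA.fromSpec_primeIdealOf])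
    have h2 := (PrimeSpectrum.le_iff_specializes _ _).2 h1
    have h3 : hA.primeIdealOf ⟨b, hbA⟩ = p := PrimeSpectrum.ext (le_antisymm h2 (hmin.2 ⟨inferInstance, bot_le⟩ h2))
    have := congrArg hA.fromSpec h3
    rwa [hA.fromSpec_primeIdealOf, hA.fromSpec_primeIdealOf] at this
  obtain ⟨f, hfp, hfT⟩ := exists_mem_avoid p.asIdeal T (fun q hq => ((Set.Finite.mem_toFinset _).1 hq).1.1.1) fun q hq hle => by
    have hq' := (Set.Finite.mem_toFinset _).1 hq
    exact hq'.2 (le_antisymm (hq'.1.2 ⟨p.2, bot_le⟩ hle) hle)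
  have hfp' : p.asIdeal ∈ (Ideal.span {f}).minimalPrimes := by
    refine ⟨⟨p.2, Ideal.span_le.2 (Set.singleton_subset_iff.2 hfp)⟩, fun q hq hqp => ?_⟩
    by_contra hlt
    have hqne : (⟨q, hq.1⟩ : PrimeSpectrum Γ(X, A)) ≠ p := fun h => hlt (congrArg PrimeSpectrum.asIdeal h).ge
    have hqmax := isMaxPoint_of_specializes hy (hspec _ hqp) (hne _ hqne)
    haveI := hq.1
    obtain ⟨r, hr, hrq⟩ := Ideal.exists_minimalPrimes_le (bot_le : (⊥ : Ideal Γ(X, A)) ≤ q)
    have h1 : hA.fromSpec ⟨r, hr.1.1⟩ = hA.fromSpec ⟨q, hq.1⟩ := hqmax _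
      (Specializes.map ((PrimeSpectrum.le_iff_specializes (⟨r, hr.1.1⟩ : PrimeSpectrum Γ(X, A)) ⟨q, hq.1⟩).1 hrq) hA.fromSpec.continuous)
    have h2 : r = q := congrArg PrimeSpectrum.asIdeal (hA.fromSpec.isOpenEmbedding.injective h1)
    refine hfT q ((Set.Finite.mem_toFinset _).2 ⟨h2 ▸ hr, fun h => hlt ?_⟩) (hq.2 (Ideal.mem_span_singleton_self f))
    exact (Set.mem_singleton_iff.1 h).ge
  obtain ⟨t₂, ht₂, hsep₂⟩ := exists_separating hfp'
  let W := X.basicOpen (t₁ * t₂)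
  have hWA : W ≤ A := X.basicOpen_le _
  have hprime : ∀ w (hw : w ∈ W), t₁ ∉ (hA.primeIdealOf ⟨w, hWA hw⟩).asIdeal ∧
      t₂ ∉ (hA.primeIdealOf ⟨w, hWA hw⟩).asIdeal := fun w hw => by
    have h := (UfdExtend.mem_basicOpen_iff hA (hWA hw) _).1 hw
    exact ⟨fun h' => h (Ideal.mul_mem_right _ _ h'), fun h' => h (Ideal.mul_mem_left _ _ h')⟩
  refine ⟨W, QC.resO X hWA f, hA.basicOpen _, (UfdExtend.mem_basicOpen_iff hA hyA _).2
    (p.asIdeal.primeCompl.mul_mem ht₁ ht₂), hWA.trans hAO, fun w hw hwU => ?_, ?_⟩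
  · have h1 := hsep₁ (hA.primeIdealOf ⟨w, hWA hw⟩).asIdeal inferInstance (hprime w hw).1
      ((hmem _).2 (by rw [hA.fromSpec_primeIdealOf]; exact hwU))
    have := Specializes.map ((PrimeSpectrum.le_iff_specializes p _).1 h1) hA.fromSpec.continuous
    rwa [hA.fromSpec_primeIdealOf, hA.fromSpec_primeIdealOf] at this
  · refine Opens.ext (Set.ext fun w => ?_)
    show w ∈ W ⊓ U ↔ w ∈ X.basicOpen (QC.resO X hWA f)
    rw [show X.basicOpen (QC.resO X hWA f) = W ⊓ X.basicOpen f from Scheme.basicOpen_res X f (homOfLE hWA).op]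
    constructor
    · rintro ⟨hw, hwU⟩
      refine ⟨hw, (UfdExtend.mem_basicOpen_iff hA (hWA hw) f).2 fun hf => ?_⟩
      have h1 := hsep₂ _ inferInstance (hprime w hw).2 (Ideal.span_le.2 (Set.singleton_subset_iff.2 hf))
      have h2 := Specializes.map ((PrimeSpectrum.le_iff_specializes p _).1 h1) hA.fromSpec.continuous
      rw [hA.fromSpec_primeIdealOf, hA.fromSpec_primeIdealOf] at h2
      exact hyU (h2.mem_open U.2 hwU)
    · rintro ⟨hw, hwf⟩
      refine ⟨hw, ?_⟩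
      by_contra hwU
      refine (UfdExtend.mem_basicOpen_iff hA (hWA hw) f).1 hwf ?_
      exact hsep₁ _ inferInstance (hprime w hw).1 ((hmem _).2 (by rw [hA.fromSpec_primeIdealOf]; exact hwU)) hfp

end Groth.Agent.SepAffine
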