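import Groth.Agent.SepAffine.Pole
import Groth.Agent.SepAffine.Top
import Mathlib

/-!
A function near given points with affine non-vanishing locus containing given other points.
-/

set_option autoImplicit false
set_option backward.isDefEq.respectTransparency false

universe u

open CategoryTheory AlgebraicGeometry TopologicalSpace Opposite
open Groth.Agent.QC (resO resO_resO)

noncomputable section

namespace Groth.Agent.SepAffine

variable {X : Scheme.{u}}

theorem exists_glue {κ : Type u} (V : κ → X.Opens) (s : ∀ i, Γ(X, V i))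
    (h : ∀ i j, resO X (inf_le_left : V i ⊓ V j ≤ V i) (s i) = resO X (inf_le_right : V i ⊓ V j ≤ V j) (s j)) :
    ∃ t : Γ(X, iSup V), ∀ i, resO X (le_iSup V i) t = s i := by
  obtain ⟨t, ht, -⟩ := X.sheaf.existsUnique_gluing V s h
  exact ⟨t, fun i => ht i⟩

variable [IsLocallyNoetherian X] [X.IsSeparated]

theorem exists_pole_glue {U : X.Opens} (hU : IsAffineOpen U) (Y : Finset X)
    (hdim : ∀ y ∈ Y, ringKrullDim (X.presheaf.stalk y) ≤ 1) (hYU : ∀ y ∈ Y, y ∉ U)
    (hnmax : ∀ y ∈ Y, ¬ IsMaxPoint y) (hgen : ∀ y ∈ Y, ∀ b, b ⤳ y → b ≠ y → b ∈ U)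
    (G : X.Opens) (hYG : ∀ y ∈ Y, y ∈ G) {P : Set X} (hP : P.Finite) (hPU : P ⊆ U) :
    ∃ (O : X.Opens) (i : Γ(X, O)), (∀ y ∈ Y, y ∈ O) ∧ IsAffineOpen (X.basicOpen i) ∧
      P ⊆ X.basicOpen i ∧ X.basicOpen i ≤ U ∧ O ≤ X.basicOpen i ⊔ G := by
  classical
  let K := {y // y ∈ Y}
  let C : K → X.Opens := fun y => ⟨(⋃ y' ∈ (↑(Y.erase y.1) : Set X), closure {y'})ᶜ,
    ((Y.erase y.1).finite_toSet.isClosed_biUnion fun _ _ => isClosed_closure).isOpen_compl⟩
  have hyC : ∀ y : K, y.1 ∈ C y := fun y h => by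
    obtain ⟨y', hy', hcl⟩ := Set.mem_iUnion₂.1 h
    rw [Finset.mem_coe, Finset.mem_erase] at hy'
    exact hYU y' hy'.2 (hgen y.1 y.2 y' (specializes_iff_mem_closure.2 hcl) hy'.1)
  choose W f hW hyW hWle hone hWf using fun y : K =>
    exists_principal_nbhd U (hdim y.1 y.2) (hYU y.1 y.2) (hnmax y.1 y.2) (hgen y.1 y.2) (G ⊓ C y)
      ⟨hYG y.1 y.2, hyC y⟩
  choose ι hι v hv hpole using fun y : K =>
    exists_valuations_point hU (hdim y.1 y.2) (hYU y.1 y.2) (hW y) (hyW y) (hone y) (f y) (hWf y)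
  haveI := hι
  let T : Finset (Ideal Γ(X, U)) :=
    (hP.toFinset.attach).image fun x => (hU.primeIdealOf ⟨x.1, hPU ((hP.mem_toFinset).1 x.2)⟩).asIdeal
  obtain ⟨a, ha, haT⟩ := exists_large_avoid (fun i : Σ y, ι y => v i.1 i.2) (fun i => hv i.1 i.2) T fun q hq => by
    obtain ⟨x, -, rfl⟩ := Finset.mem_image.1 hq
    infer_instance
  choose N hN hF using fun y => hpole y a fun i => ha ⟨y, i⟩
  let M := ∏ y, N y
  have hk : ∀ y, ∃ k, 0 < k ∧ M = N y * k := fun y => by
    obtain ⟨k, hk⟩ := Finset.dvd_prod_of_mem N (Finset.mem_univ y)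
    refine ⟨k, Nat.pos_of_ne_zero fun h => ?_, hk⟩
    have hM : 0 < M := Finset.prod_pos fun y _ => hN y
    rw [show M = _ from hk, h, mul_zero] at hM
    exact lt_irrefl 0 hM
  choose k hk0 hMk using hk
  choose W' hW'W F hyW' hFU hF1 using fun y => hF y (k y) (hk0 y)
  have haP : P ⊆ X.basicOpen a := fun x hx => (UfdExtend.mem_basicOpen_iff hU (hPU hx) a).2
    (haT _ (Finset.mem_image.2 ⟨⟨x, hP.mem_toFinset.2 hx⟩, Finset.mem_attach _ _, rfl⟩))
  let D := X.basicOpen a
  have hau : IsUnit (resO X (X.basicOpen_le a) a ^ M) := (QC.isUnit_resO_basicOpen hU a).pow M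
  have hF1' : ∀ y, resO X (inf_le_left : W' y ⊓ U ≤ W' y) (F y) * resO X (inf_le_right : W' y ⊓ U ≤ U) a ^ M = 1 :=
    fun y => by rw [hMk y]; exact hF1 y
  have hUD : ∀ y, W' y ⊓ U ≤ D := fun y w hw => by
    have hu : IsUnit (resO X (inf_le_right : W' y ⊓ U ≤ U) a) :=
      (isUnit_pow_iff (by have := Finset.prod_pos (fun y (_ : y ∈ Finset.univ) => hN y); exact (Nat.pos_iff_ne_zero.1 this))).1
        (IsUnit.of_mul_eq_one_right _ (hF1' y))
    have h1 : w ∈ X.basicOpen (resO X (inf_le_right : W' y ⊓ U ≤ U) a) := (X.mem_basicOpen _ w hw).2 (hu.map _)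
    exact ((Scheme.basicOpen_res X a (homOfLE (inf_le_right : W' y ⊓ U ≤ U)).op).le h1).2
  let V : Option K → X.Opens := fun o => o.elim D W'
  let s : ∀ o, Γ(X, V o) := fun o => match o with
    | none => hau.unit⁻¹.val
    | some y => F y
  have hs : ∀ o, ∀ (h : V o ⊓ U ≤ U), resO X (inf_le_left : V o ⊓ U ≤ V o) (s o) * resO X h a ^ M = 1 := by
    rintro (_ | y) h
    · have := congrArg (resO X (inf_le_left : D ⊓ U ≤ D)) hau.val_inv_mul
      rw [map_mul, map_one, map_pow, resO_resO] at this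
      exact this
    · exact hF1' y
  have hcompat : ∀ o o', resO X (inf_le_left : V o ⊓ V o' ≤ V o) (s o) =
      resO X (inf_le_right : V o ⊓ V o' ≤ V o') (s o') := by
    intro o o'
    by_cases ho : o = o'
    · subst ho; rfl
    have hle : V o ⊓ V o' ≤ U := by
      rcases o with _ | y
      · exact inf_le_left.trans (X.basicOpen_le a)
      rcases o' with _ | y'
      · exact inf_le_right.trans (X.basicOpen_le a)
      intro w hw
      by_contra hwU
      have hCy := (hWle y (hW'W y hw.1)).2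
      refine hCy (Set.mem_iUnion₂.2 ⟨y'.1, ?_, specializes_iff_mem_closure.1 (hone y' w (hW'W y' hw.2) hwU)⟩)
      rw [Finset.mem_coe, Finset.mem_erase]
      exact ⟨fun h => ho (congrArg some (Subtype.ext h.symm)), y'.2⟩
    have e1 := congrArg (resO X (show V o ⊓ V o' ≤ V o ⊓ U from le_inf inf_le_left hle)) (hs o inf_le_right)
    have e2 := congrArg (resO X (show V o ⊓ V o' ≤ V o' ⊓ U from le_inf inf_le_right hle)) (hs o' inf_le_right)
    rw [map_mul, map_one, map_pow, resO_resO, resO_resO] at e1 e2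
    exact ((IsUnit.of_mul_eq_one_right _ e1).mul_left_inj).1 (e1.trans e2.symm)
  obtain ⟨i, hi⟩ := exists_glue V s hcompat
  have hbo : X.basicOpen i = D := by
    have h : ∀ o, V o ⊓ X.basicOpen i = X.basicOpen (s o) := fun o => by
      rw [← hi o]
      exact (Scheme.basicOpen_res X i (homOfLE (le_iSup V o)).op).symm
    refine le_antisymm (fun w hw => ?_) fun w hw => ?_
    · obtain ⟨o, ho⟩ := Opens.mem_iSup.1 (X.basicOpen_le i hw)
      rcases o with _ | y
      · exact ho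
      · have h1 : w ∈ X.basicOpen (F y) := (h (some y)).le ⟨ho, hw⟩
        exact hUD y ⟨ho, hFU y h1⟩
    · have h1 : X.basicOpen hau.unit⁻¹.val = D := Scheme.basicOpen_of_isUnit X (Units.isUnit _)
      exact ((h none).ge (show w ∈ X.basicOpen (s none) from h1.ge hw)).2
  refine ⟨iSup V, i, fun y hy => Opens.mem_iSup.2 ⟨some ⟨y, hy⟩, hyW' _⟩, hbo ▸ hU.basicOpen a,
    hbo ▸ haP, hbo ▸ X.basicOpen_le a, iSup_le ?_⟩
  rintro (_ | y)
  · rw [hbo]; exact le_sup_left
  · exact le_sup_of_le_right ((hW'W y).trans ((hWle y).trans inf_le_left))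

end Groth.Agent.SepAffine
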