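import Groth.Agent.AmpleDimOne.Alg
import Mathlib

/-!
Prime avoidance for functions with large valuations, and primes that are locally the zero locus of an ideal.
-/

set_option autoImplicit false

universe u v

open scoped WithZero

namespace Groth.Agent.SepAffine

/-- An element avoiding finitely many primes with poles at finitely many valuations. -/
theorem exists_large_avoid {A : Type u} [CommRing A] {ι : Type v} [Finite ι] (w : ι → Valuation A ℤᵐ⁰)
    (hw : ∀ i, ∃ a, 1 < w i a) (T : Finset (Ideal A)) (hT : ∀ p ∈ T, p.IsPrime) :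
    ∃ a, (∀ i, 1 < w i a) ∧ ∀ p ∈ T, a ∉ p := by
  classical
  haveI := Fintype.ofFinite ι
  induction T using Finset.induction_on with
  | empty =>
    obtain ⟨a, ha⟩ := AmpleDimOne.exists_large w hw Finset.univ
    exact ⟨a, fun i => ha i (Finset.mem_univ i), fun p hp => absurd hp (Finset.notMem_empty p)⟩
  | insert p T _ ih =>
    obtain ⟨a, ha, haT⟩ := ih fun q hq => hT q (Finset.mem_insert_of_mem hq)
    haveI := hT p (Finset.mem_insert_self _ _)
    by_cases hap : a ∈ p
    swap
    · refine ⟨a, ha, fun q hq => ?_⟩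
      rcases Finset.mem_insert.1 hq with rfl | hq
      exacts [hap, haT q hq]
    let T' := T.filter fun q => ¬ q ≤ p
    obtain ⟨c, hcJ, hcp⟩ : ∃ c, c ∈ T'.inf id ∧ c ∉ p := by
      by_contra hcon
      push Not at hcon
      obtain ⟨q, hq, hqp⟩ := (Ideal.IsPrime.inf_le' ‹p.IsPrime›).1 (show T'.inf id ≤ p from hcon)
      exact (Finset.mem_filter.1 hq).2 hqp
    choose N hN using fun i => GlueSL.exists_lt_pow (ha i) (w i c)
    let M := Finset.univ.sup N + 1
    have hdom : ∀ i, w i c < w i (a ^ M) := fun i => by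
      rw [map_pow]; exact hN i M ((Finset.le_sup (Finset.mem_univ i)).trans (Nat.le_succ _))
    refine ⟨a ^ M + c, fun i => ?_, fun q hq => ?_⟩
    · rw [(w i).map_add_eq_of_lt_left (hdom i), map_pow]
      exact one_lt_pow₀ (ha i) (by omega)
    have hp' : a ^ M + c ∉ p := fun h => hcp <| by
      have := p.sub_mem h (p.pow_mem_of_mem hap M (by omega))
      rwa [add_sub_cancel_left] at this
    rcases Finset.mem_insert.1 hq with rfl | hq
    · exact hp'
    · by_cases hqp : q ≤ p
      · exact fun h => hp' (hqp h)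
      · intro h
        haveI := hT q (Finset.mem_insert_of_mem hq)
        have hc : c ∈ q := (Finset.inf_le (show q ∈ T' from Finset.mem_filter.2 ⟨hq, hqp⟩) : T'.inf id ≤ q) hcJ
        have := q.sub_mem h hc
        rw [add_sub_cancel_right] at this
        exact haT q hq ((inferInstance : q.IsPrime).mem_of_pow_mem M this)

/-- A minimal prime over an ideal is, on a basic open around it, the only component. -/
theorem exists_separating {A : Type u} [CommRing A] [IsNoetherianRing A] {J p : Ideal A}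
    (hp : p ∈ J.minimalPrimes) :
    ∃ t ∉ p, ∀ q : Ideal A, q.IsPrime → t ∉ q → J ≤ q → p ≤ q := by
  classical
  haveI := hp.1.1
  have hfin : (J.minimalPrimes \ {p}).Finite := (Ideal.finite_minimalPrimes_of_isNoetherianRing A J).subset fun q hq => hq.1
  obtain ⟨t, ht, htp⟩ : ∃ t, t ∈ hfin.toFinset.inf id ∧ t ∉ p := by
    by_contra hcon
    push Not at hcon
    obtain ⟨q, hq, hqp⟩ := (Ideal.IsPrime.inf_le' ‹p.IsPrime›).1 (show hfin.toFinset.inf id ≤ p from hcon)
    rw [Set.Finite.mem_toFinset] at hq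
    exact hq.2 (le_antisymm hqp (hp.2 ⟨hq.1.1.1, hq.1.1.2⟩ hqp))
  refine ⟨t, htp, fun q hq htq hJq => ?_⟩
  obtain ⟨r, hr, hrq⟩ := Ideal.exists_minimalPrimes_le hJq
  by_cases hrp : r = p
  · exact hrp ▸ hrq
  · exact absurd (hrq ((Finset.inf_le (hfin.mem_toFinset.2 ⟨hr, hrp⟩) : hfin.toFinset.inf id ≤ r) ht)) htq

/-- A finite set of primes avoided by an element of an ideal. -/
theorem exists_mem_avoid {A : Type u} [CommRing A] (I : Ideal A) (T : Finset (Ideal A))
    (hT : ∀ p ∈ T, p.IsPrime) (h : ∀ p ∈ T, ¬ I ≤ p) : ∃ c ∈ I, ∀ p ∈ T, c ∉ p := by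
  classical
  by_contra hcon
  push Not at hcon
  rcases T.eq_empty_or_nonempty with rfl | ⟨p₀, hp₀⟩
  · obtain ⟨p, hp, -⟩ := hcon 0 I.zero_mem
    exact Finset.notMem_empty p hp
  obtain ⟨p, hp, hle⟩ := (Ideal.subset_union_prime (f := id) p₀ p₀ fun p hp _ _ => hT p hp).1
    (show (I : Set A) ⊆ ⋃ p ∈ (T : Set (Ideal A)), (id p : Set A) from fun c hc => by
      obtain ⟨p, hp, hcp⟩ := hcon c hc
      exact Set.mem_iUnion₂.2 ⟨p, hp, hcp⟩)
  exact h p hp hle

end Groth.Agent.SepAffine
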