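import Groth.Agent.SepAffine.Top
import Mathlib

/-!
Affine neighbourhoods of finitely many generic points.
-/

set_option autoImplicit false

universe u

open CategoryTheory AlgebraicGeometry TopologicalSpace

namespace Groth.Agent.SepAffine

variable {X : Scheme.{u}}

theorem isMaxPoint_of_mem_irreducibleComponents {x : X}
    (hx : closure ({x} : Set X) ∈ irreducibleComponents (X : Type u)) : IsMaxPoint x := fun y hy => by
  have h1 : closure ({x} : Set X) ≤ closure {y} := specializes_iff_closure_subset.1 hy
  have h2 := hx.2 isIrreducible_singleton.closure h1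
  exact (hy.antisymm (specializes_iff_closure_subset.2 h2)).eq

theorem exists_disjoint_affine_aux [QuasiSeparatedSpace X] :
    ∀ (n : ℕ) (η : Fin n → X), (∀ i, IsMaxPoint (η i)) → Function.Injective η →
      ∀ O : X.Opens, (∀ i, η i ∈ O) → ∃ U : Fin n → X.Opens, (∀ i, IsAffineOpen (U i) ∧ η i ∈ U i ∧ U i ≤ O) ∧
        (∀ i j, i ≠ j → Disjoint (U i) (U j)) ∧ IsAffineOpen (⨆ i, U i) := by
  intro n
  induction n with
  | zero =>
    intro η _ _ O _
    exact ⟨fun i => i.elim0, fun i => i.elim0, fun i => i.elim0, by rw [iSup_of_empty]; exact isAffineOpen_bot X⟩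
  | succ n ih =>
    intro η hmax hinj O hO
    let C : X.Opens := ⟨(closure {η 0})ᶜ, isClosed_closure.isOpen_compl⟩
    obtain ⟨U, hU, hdisj, hD⟩ := ih (fun i => η i.succ) (fun i => hmax _)
      (hinj.comp (Fin.succ_injective n)) (O ⊓ C) fun i => ⟨hO _, fun h =>
        Fin.succ_ne_zero i (hinj ((hmax i.succ _ (specializes_iff_mem_closure.2 h)).symm))⟩
    let D := ⨆ i, U i
    have : CompactSpace D.toScheme := isCompact_iff_compactSpace.1 hD.isCompact
    have : QuasiCompact D.ι := quasiCompact_of_compactSpace _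
    have h0 : η 0 ∉ closure (D : Set X) := fun hcl => by
      obtain ⟨z, -, hz⟩ := SubDescent.exists_specializes_of_mem_closure_image D.ι isClosed_univ
        (y := η 0) (by rwa [Set.image_univ, Scheme.Opens.range_ι])
      have hzD : η 0 ∈ D := hmax 0 _ hz ▸ z.2
      obtain ⟨i, hi⟩ := Opens.mem_iSup.1 hzD
      exact ((hU i).2.2 hi).2 (subset_closure rfl)
    obtain ⟨A, hA, hηA, hAle⟩ := exists_isAffineOpen_mem_and_subset (x := η 0)
      (U := O ⊓ ⟨(closure (D : Set X))ᶜ, isClosed_closure.isOpen_compl⟩) ⟨hO 0, h0⟩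
    have hAD : Disjoint D A := by
      rw [disjoint_iff]
      exact Opens.ext (Set.eq_empty_of_forall_notMem fun x hx => (hAle hx.2).2 (subset_closure hx.1))
    refine ⟨Fin.cons A U, fun i => ?_, fun i j hij => ?_, ?_⟩
    · cases i using Fin.cases with
      | zero => exact ⟨hA, hηA, fun x hx => (hAle hx).1⟩
      | succ i => exact ⟨(hU i).1, (hU i).2.1, (hU i).2.2.trans inf_le_left⟩
    · cases i using Fin.cases with
      | zero =>
        cases j using Fin.cases with
        | zero => exact absurd rfl hij
        | succ j => exact (hAD.mono_left (le_iSup U j)).symm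
      | succ i =>
        cases j using Fin.cases with
        | zero => exact hAD.mono_left (le_iSup U i)
        | succ j => exact hdisj i j fun h => hij (congrArg Fin.succ h)
    · have e : (⨆ i, (Fin.cons A U : Fin (n + 1) → X.Opens) i) = D ⊔ A := by
        refine le_antisymm (iSup_le fun i => ?_) (sup_le (iSup_le fun i => ?_) (le_iSup (Fin.cons A U) 0))
        · cases i using Fin.cases with
          | zero => exact le_sup_right
          | succ i => exact le_sup_of_le_left (le_iSup U i)
        · exact le_iSup (Fin.cons A U) i.succ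
      rw [e]
      exact hD.sup_of_disjoint hA hAD

theorem exists_disjoint_affine [QuasiSeparatedSpace X] {n : ℕ} (η : Fin n → X) (hmax : ∀ i, IsMaxPoint (η i))
    (hinj : Function.Injective η) :
    ∃ U : Fin n → X.Opens, (∀ i, IsAffineOpen (U i) ∧ η i ∈ U i) ∧
      (∀ i j, i ≠ j → Disjoint (U i) (U j)) ∧ IsAffineOpen (⨆ i, U i) := by
  obtain ⟨U, h1, h2, h3⟩ := exists_disjoint_affine_aux n η hmax hinj ⊤ fun _ => trivial
  exact ⟨U, fun i => ⟨(h1 i).1, (h1 i).2.1⟩, h2, h3⟩

end Groth.Agent.SepAffine
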